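import Groth.Agent.AModX.Exact
import Groth.Agent.QCoh.PullbackBC
import Groth.Agent.QCoh.DevissageSum
import Groth.Agent.QCoh.Support
import Groth.Agent.SiteBase.ModColim
import Mathlib.Algebra.Category.ModuleCat.Sheaf.Abelian

/-!
# The essential image of the direct image along an affine morphism
-/

universe u

open CategoryTheory CategoryTheory.Limits AlgebraicGeometry TopologicalSpace Opposite

set_option backward.isDefEq.respectTransparency false
set_option backward.isDefEq.respectTransparency.types false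
set_option linter.style.haveILetI false
set_option linter.unusedSectionVars false

noncomputable section

namespace Groth.Agent.AModX

open Groth.Agent

variable {X S : Scheme.{u}} (f : X ⟶ S) [IsAffineHom f] (M : AMod (RelSpec.QCAlg.directImage f))

/-- The underlying module over the structure sheaf. -/
abbrev under : S.Modules := (AMod.toOS (RelSpec.QCAlg.directImage f)).obj M

/-- The inverse image of the underlying module. -/
abbrev gen : X.Modules := (Scheme.Modules.pullback f).obj (under f M)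

variable (hM : Coh.IsQCoh (under f M))
include hM

/-- The action on sections over an affine open of the base. -/
theorem exists_act (U : S.Opens) (hU : IsAffineOpen U) :
    ∃ φ : Γ(gen f M, f ⁻¹ᵁ U) →+ M.val.obj (op U),
      (∀ (r : Γ(X, f ⁻¹ᵁ U)) z, φ (r • z) =
        (show (AMod.ringSheaf (RelSpec.QCAlg.directImage f)).obj.obj (op U) from r) • φ z) ∧
      ∀ x : Γ(under f M, U), φ (QCoh.pullSec f (under f M) le_rfl x) = x := by
  letI : Algebra Γ(S, U) Γ(X, f ⁻¹ᵁ U) := (f.appLE U (f ⁻¹ᵁ U) le_rfl).hom.toAlgebra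
  letI : Module Γ(S, U) Γ(gen f M, f ⁻¹ᵁ U) := Module.compHom _ (f.appLE U (f ⁻¹ᵁ U) le_rfl).hom
  haveI : IsScalarTower Γ(S, U) Γ(X, f ⁻¹ᵁ U) Γ(gen f M, f ⁻¹ᵁ U) :=
    ⟨fun a b c => mul_smul ((f.appLE U (f ⁻¹ᵁ U) le_rfl).hom a) b c⟩
  let l : Γ(under f M, U) →ₗ[Γ(S, U)] Γ(gen f M, f ⁻¹ᵁ U) :=
    { toFun := QCoh.pullSec f (under f M) le_rfl
      map_add' := QCoh.pullSec_add f (under f M) le_rfl
      map_smul' := QCoh.pullSec_smul f (under f M) le_rfl }
  have hbc : IsBaseChange Γ(X, f ⁻¹ᵁ U) l :=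
    QCoh.isBaseChange_pullback hU f (hU.preimage f) hM le_rfl (fun r => rfl) l fun x => rfl
  letI : Module Γ(X, f ⁻¹ᵁ U) Γ(under f M, U) :=
    inferInstanceAs (Module ((AMod.ringSheaf (RelSpec.QCAlg.directImage f)).obj.obj (op U)) (M.val.obj (op U)))
  haveI : IsScalarTower Γ(S, U) Γ(X, f ⁻¹ᵁ U) Γ(under f M, U) :=
    IsScalarTower.of_algebraMap_smul fun a c => by
      show (f.appLE U (f ⁻¹ᵁ U) le_rfl).hom a • c = _
      rw [← Scheme.Hom.app_eq_appLE]
      rfl
  let I : Γ(under f M, U) →ₗ[Γ(S, U)] Γ(under f M, U) := LinearMap.id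
  let L : Γ(gen f M, f ⁻¹ᵁ U) →ₗ[Γ(X, f ⁻¹ᵁ U)] Γ(under f M, U) := hbc.lift I
  have hL : ∀ x : Γ(under f M, U), L (QCoh.pullSec f (under f M) le_rfl x) = x := fun x => hbc.lift_eq I x
  exact ⟨L.toAddMonoidHom, fun r z => L.map_smul r z, hL⟩

/-- The action map, on sections over affine opens. -/
def act (U : S.Opens) (hU : IsAffineOpen U) : Γ(gen f M, f ⁻¹ᵁ U) →+ M.val.obj (op U) :=
  (exists_act f M hM U hU).choose

lemma act_smul (U : S.Opens) (hU : IsAffineOpen U) (r : Γ(X, f ⁻¹ᵁ U)) (z : Γ(gen f M, f ⁻¹ᵁ U)) :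
    act f M hM U hU (r • z) =
      (show (AMod.ringSheaf (RelSpec.QCAlg.directImage f)).obj.obj (op U) from r) • act f M hM U hU z :=
  (exists_act f M hM U hU).choose_spec.1 r z

lemma act_pullSec (U : S.Opens) (hU : IsAffineOpen U) (x : Γ(under f M, U)) :
    act f M hM U hU (QCoh.pullSec f (under f M) le_rfl x) = x :=
  (exists_act f M hM U hU).choose_spec.2 x

/-- The action map commutes with restriction. -/
lemma act_res {U V : S.Opens} (hU : IsAffineOpen U) (hV : IsAffineOpen V) (h : V ≤ U)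
    (z : Γ(gen f M, f ⁻¹ᵁ U)) :
    M.val.map (homOfLE h).op (act f M hM U hU z) = act f M hM V hV (AModX.res _ (f.preimage_mono h) z) := by
  letI : Algebra Γ(S, U) Γ(X, f ⁻¹ᵁ U) := (f.appLE U (f ⁻¹ᵁ U) le_rfl).hom.toAlgebra
  letI : Module Γ(S, U) Γ(gen f M, f ⁻¹ᵁ U) := Module.compHom _ (f.appLE U (f ⁻¹ᵁ U) le_rfl).hom
  haveI : IsScalarTower Γ(S, U) Γ(X, f ⁻¹ᵁ U) Γ(gen f M, f ⁻¹ᵁ U) :=
    ⟨fun a b c => mul_smul ((f.appLE U (f ⁻¹ᵁ U) le_rfl).hom a) b c⟩
  let l : Γ(under f M, U) →ₗ[Γ(S, U)] Γ(gen f M, f ⁻¹ᵁ U) :=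
    { toFun := QCoh.pullSec f (under f M) le_rfl
      map_add' := QCoh.pullSec_add f (under f M) le_rfl
      map_smul' := QCoh.pullSec_smul f (under f M) le_rfl }
  have hbc : IsBaseChange Γ(X, f ⁻¹ᵁ U) l :=
    QCoh.isBaseChange_pullback hU f (hU.preimage f) hM le_rfl (fun r => rfl) l fun x => rfl
  induction z using hbc.inductionOn with
  | zero => rw [map_zero, map_zero, map_zero, map_zero]
  | tmul x =>
    show M.val.map (homOfLE h).op (act f M hM U hU (QCoh.pullSec f (under f M) le_rfl x)) = _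
    rw [act_pullSec]
    refine (act_pullSec f M hM V hV _).symm.trans (congrArg (act f M hM V hV) ?_)
    show QCoh.pullSec f (under f M) le_rfl (AModX.res (under f M) h x) =
      AModX.res _ (f.preimage_mono h) (QCoh.pullSec f (under f M) le_rfl x)
    unfold QCoh.pullSec
    erw [AModX.app_res ((Scheme.Modules.pullbackPushforwardAdjunction f).unit.app (under f M)) h x]
    exact (AModX.res_res _ _ _).trans (AModX.res_res _ _ _).symm
  | smul r z hz =>
    refine (congrArg (M.val.map (homOfLE h).op) (act_smul f M hM U hU r z)).trans ?_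
    refine (PresheafOfModules.map_smul M.val (homOfLE h).op _ _).trans ?_
    rw [hz, AModX.res_smul]
    exact (act_smul f M hM V hV (AModX.resR (f.preimage_mono h) r) _).symm
  | add z z' hz hz' => rw [map_add, map_add, map_add, map_add, hz, hz']

/-- The action map, as a map of abelian sheaves. -/
def actHom : ((AMod.dirImg f).obj (gen f M)).val.presheaf ⟶ M.val.presheaf :=
  Functor.IsCoverDense.restrictHomEquivHom (G := Scheme.AffineZariskiSite.toOpensFunctor S)
    (K := Opens.grothendieckTopology S) (ℱ := ((AMod.dirImg f).obj (gen f M)).val.presheaf)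
    (ℱ' := (⟨M.val.presheaf, M.isSheaf⟩ : TopCat.Sheaf AddCommGrpCat.{u} S.carrier))
    { app := fun U => AddCommGrpCat.ofHom (act f M hM U.unop.1 U.unop.2)
      naturality := fun U V i => by
        ext z
        exact (act_res f M hM U.unop.2 V.unop.2 (Scheme.AffineZariskiSite.toOpens_mono i.unop.le) z).symm }

lemma actHom_app (U : S.Opens) (hU : IsAffineOpen U) :
    (actHom f M hM).app (op U) = AddCommGrpCat.ofHom (act f M hM U hU) := by
  have h := congr($((Functor.IsCoverDense.restrictHomEquivHom (G := Scheme.AffineZariskiSite.toOpensFunctor S)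
    (K := Opens.grothendieckTopology S) (ℱ := ((AMod.dirImg f).obj (gen f M)).val.presheaf)
    (ℱ' := (⟨M.val.presheaf, M.isSheaf⟩ : TopCat.Sheaf AddCommGrpCat.{u} S.carrier))).symm_apply_apply
      { app := fun U => AddCommGrpCat.ofHom (act f M hM U.unop.1 U.unop.2)
        naturality := fun U V i => by
          ext z
          exact (act_res f M hM U.unop.2 V.unop.2 (Scheme.AffineZariskiSite.toOpens_mono i.unop.le) z).symm }).app
      (op (⟨U, hU⟩ : S.AffineZariskiSite)))
  exact h

/-- Every module over the direct-image algebra is a quotient of a direct image. -/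
theorem exists_epi_dirImg :
    ∃ φ : (AMod.dirImg f).obj (gen f M) ⟶ M, Epi φ ∧
      ∀ (U : S.Opens), IsAffineOpen U → Function.Surjective (φ.val.app (op U)) := by
  let η := actHom f M hM
  have hlin : ∀ (W : (S.Opens)ᵒᵖ) (r : (AMod.ringSheaf (RelSpec.QCAlg.directImage f)).obj.obj W)
      (z : ((AMod.dirImg f).obj (gen f M)).val.obj W), (η.app W) (r • z) = r • (η.app W) z := by
    intro W r z
    refine amod_eq_of_locally M (V := W.unop) _ _ fun p hp => ?_
    obtain ⟨_, ⟨U, hU, rfl⟩, hpU, hUW⟩ := S.isBasis_affineOpens.exists_subset_of_mem_open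
      (show p ∈ (W.unop : Set S) from hp) W.unop.isOpen
    refine ⟨U, hUW, hpU, ?_⟩
    have hUW' : U ≤ W.unop := hUW
    have hn : ∀ w, M.val.map (homOfLE hUW').op ((η.app W) w) =
        (η.app (op U)) (((AMod.dirImg f).obj (gen f M)).val.map (homOfLE hUW').op w) := fun w =>
      (ConcreteCategory.congr_hom (η.naturality (homOfLE hUW').op) w).symm
    rw [hn]
    refine Eq.trans ?_ (PresheafOfModules.map_smul M.val (homOfLE hUW').op r ((η.app W) z)).symm
    rw [hn]
    erw [PresheafOfModules.map_smul]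
    rw [actHom_app f M hM U hU]
    exact act_smul f M hM U hU _ _
  refine ⟨⟨PresheafOfModules.homMk η hlin⟩, ?_, fun U hU x => ?_⟩
  · constructor
    intro Z k k' e
    refine SheafOfModules.Hom.ext (PresheafOfModules.hom_ext fun W => ?_)
    ext y
    refine amod_eq_of_locally Z _ _ fun p hp => ?_
    obtain ⟨_, ⟨U, hU, rfl⟩, hpU, hUW⟩ := S.isBasis_affineOpens.exists_subset_of_mem_open
      (show p ∈ (W.unop : Set S) from hp) W.unop.isOpen
    refine ⟨U, hUW, hpU, ?_⟩
    have hUW' : U ≤ W.unop := hUW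
    rw [← PresheafOfModules.naturality_apply k.val (homOfLE hUW').op y,
      ← PresheafOfModules.naturality_apply k'.val (homOfLE hUW').op y]
    obtain ⟨z, hz⟩ : ∃ z, (η.app (op U)) z = M.val.map (homOfLE hUW').op y := by
      rw [actHom_app f M hM U hU]; exact ⟨_, act_pullSec f M hM U hU _⟩
    erw [← hz]
    exact congr(($(congrArg (fun m : (AMod.dirImg f).obj (gen f M) ⟶ Z => m.val.app (op U)) e)).hom z)
  · refine ⟨QCoh.pullSec f (under f M) le_rfl x, ?_⟩
    show (η.app (op U)) _ = x
    rw [actHom_app f M hM U hU]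
    exact act_pullSec f M hM U hU x

/-- Every quasi-coherent module over the direct-image algebra is a direct image. -/
theorem exists_dirImg_iso : ∃ F : X.Modules, Coh.IsQCoh F ∧ Nonempty ((AMod.dirImg f).obj F ≅ M) := by
  obtain ⟨φ, hφepi, hφ⟩ := exists_epi_dirImg f M hM
  haveI := hφepi
  have hG : Coh.IsQCoh (gen f M) := QCoh.isQCoh_pullback f hM
  have hK : Coh.IsQCoh (under f (kernel φ)) := by
    haveI : PreservesLimitsOfSize.{0, 0} (AMod.toOS (RelSpec.QCAlg.directImage f)) := by
      haveI : PreservesLimitsOfSize.{u, u} (AMod.toOS (RelSpec.QCAlg.directImage f)) :=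
        SiteBase.preservesLimitsOfSize_restrictScalars _
      exact preservesLimitsOfSize_shrink _
    have hsrc : Coh.IsQCoh ((AMod.toOS (RelSpec.QCAlg.directImage f)).obj ((AMod.dirImg f).obj (gen f M))) :=
      QCoh.isQCoh_pushforward f hG
    exact (QCoh.isQCoh_iff_iso (PreservesKernel.iso (AMod.toOS (RelSpec.QCAlg.directImage f)) φ)).2
      (QCoh.isQCoh_kernel hsrc hM _)
  obtain ⟨χ, hχepi, hχ⟩ := exists_epi_dirImg f (kernel φ) hK
  haveI := hχepi
  have hGK : Coh.IsQCoh (gen f (kernel φ)) := QCoh.isQCoh_pullback f hK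
  obtain ⟨v, hv⟩ := (dirImg_map_bijective (f := f) (G := gen f M) hGK).2 (χ ≫ kernel.ι φ)
  let F := cokernel v
  have hF : Coh.IsQCoh F := QCoh.isQCoh_cokernel hGK hG v
  haveI := dirImg_map_epi (f := f) hG hF (cokernel.π v)
  have hw : kernel.ι φ ≫ (AMod.dirImg f).map (cokernel.π v) = 0 := by
    rw [← cancel_epi χ, comp_zero, ← Category.assoc, ← hv, ← Functor.map_comp, cokernel.condition]
    refine SheafOfModules.Hom.ext (PresheafOfModules.hom_ext fun W => ?_)
    ext y
    rfl
  let hcoker := Abelian.epiIsCokernelOfKernel (KernelFork.ofι (kernel.ι φ) (kernel.condition φ)) (kernelIsKernel φ)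
  let a : M ⟶ (AMod.dirImg f).obj F := hcoker.desc (CokernelCofork.ofπ _ hw)
  have ha : φ ≫ a = (AMod.dirImg f).map (cokernel.π v) := hcoker.fac _ WalkingParallelPair.one
  have hbij : ∀ U : S.Opens, IsAffineOpen U → Function.Bijective (a.val.app (op U)) := by
    intro U hU
    have hval : ∀ z, a.val.app (op U) (φ.val.app (op U) z) = (cokernel.π v).app (f ⁻¹ᵁ U) z := fun z =>
      congr(($(congrArg (fun m : (AMod.dirImg f).obj (gen f M) ⟶ (AMod.dirImg f).obj F => m.val.app (op U)) ha)).hom z)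
    refine ⟨?_, fun y => ?_⟩
    · rw [injective_iff_map_eq_zero]
      intro x hx
      obtain ⟨z, rfl⟩ := hφ U hU x
      rw [hval] at hx
      obtain ⟨z', hz'⟩ := QCoh.exists_kernel_lift (cokernel.π v) (f ⁻¹ᵁ U) z hx
      have hvim : kernel.lift (cokernel.π v) v (cokernel.condition v) = Abelian.factorThruImage v := rfl
      haveI : Epi (kernel.lift (cokernel.π v) v (cokernel.condition v)) :=
        hvim ▸ (inferInstance : Epi (Abelian.factorThruImage v))
      obtain ⟨w, hw'⟩ := QCoh.app_surjective_of_epi hGK (QCoh.isQCoh_kernel hG hF (cokernel.π v))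
        (kernel.lift (cokernel.π v) v (cokernel.condition v)) (hU.preimage f) z'
      have e : z = v.app (f ⁻¹ᵁ U) w := by
        rw [← hz', ← hw']
        exact congr(($(kernel.lift_ι (cokernel.π v) v (cokernel.condition v))).app (f ⁻¹ᵁ U) w)
      have e' : φ.val.app (op U) (v.app (f ⁻¹ᵁ U) w) =
          φ.val.app (op U) ((kernel.ι φ).val.app (op U) (χ.val.app (op U) w)) := by
        congr 1
        exact congr(($(congrArg (fun m : (AMod.dirImg f).obj (gen f (kernel φ)) ⟶ (AMod.dirImg f).obj (gen f M) =>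
          m.val.app (op U)) hv)).hom w)
      rw [e, e']
      exact congr(($(congrArg (fun m : kernel φ ⟶ M => m.val.app (op U)) (kernel.condition φ))).hom (χ.val.app (op U) w))
    · obtain ⟨z, hz⟩ := QCoh.app_surjective_of_epi hG hF (cokernel.π v) (hU.preimage f) y
      exact ⟨φ.val.app (op U) z, (hval z).trans hz⟩
  have h' : IsIso ((AMod.toOS (RelSpec.QCAlg.directImage f)).map a) :=
    QCoh.isIso_of_isBasis _ S.isBasis_affineOpens fun U hU => hbij U hU
  haveI : (AMod.toOS (RelSpec.QCAlg.directImage f)).ReflectsIsomorphisms :=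
    SiteBase.reflectsIsomorphisms_restrictScalars _
  haveI : IsIso a := isIso_of_reflects_iso a (AMod.toOS (RelSpec.QCAlg.directImage f))
  exact ⟨F, hF, ⟨(asIso a).symm⟩⟩

end Groth.Agent.AModX
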