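import Groth.Agent.QAlgMod.Noeth
import Groth.Agent.AModX.Exact
import Groth.Agent.QCoh.FT
import Groth.Agent.QCoh.Support
import Groth.Agent.AModColim.Basic
import Groth.Prelude.Def_RelSpec2

/-!
# Finite type of direct images over the direct-image algebra
-/

universe u v' u'

open CategoryTheory CategoryTheory.Limits AlgebraicGeometry TopologicalSpace Opposite

set_option backward.isDefEq.respectTransparency false
set_option backward.isDefEq.respectTransparency.types false
set_option linter.style.haveILetI false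
set_option linter.unusedSectionVars false

noncomputable section

namespace Groth.Agent.AModX

open Groth.Agent

section site

variable {C : Type u'} [Category.{v'} C] {J : GrothendieckTopology C}
  [HasSheafify J AddCommGrpCat.{u}] [J.WEqualsLocallyBijective AddCommGrpCat.{u}]
  {S : Sheaf J RingCat.{u}} {T : C} (hT : IsTerminal T)

include hT in
/-- Finitely many values at a terminal object spanning all values give finitely many generators. -/
theorem exists_gens_of_finite_value {G : SheafOfModules.{u} S} (σ : G.GeneratingSections)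
    (h : Module.Finite (S.obj.obj (op T)) (G.val.obj (op T))) :
    ∃ τ : G.GeneratingSections, τ.IsFiniteType := by
  classical
  obtain ⟨n, t, ht⟩ := Module.Finite.exists_fin (R := S.obj.obj (op T)) (M := G.val.obj (op T))
  let sec : ULift.{u} (Fin n) → G.sections := fun k =>
    PresheafOfModules.sectionsMk (fun W => G.val.map (hT.from W.unop).op (t k.down)) fun {W W'} g =>
      by
        have h' : (hT.from W.unop).op ≫ g = (hT.from W'.unop).op := Quiver.Hom.unop_inj (hT.hom_ext _ _)
        rw [← h']
        exact (congr($(G.val.presheaf.map_comp (hT.from W.unop).op g).hom (t k.down))).symm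
  refine ⟨{ I := ULift.{u} (Fin n), s := sec, epi := ⟨fun {Z} a b hab => ?_⟩ }, ⟨inferInstance⟩⟩
  have hsec : ∀ k, (sec k).val (op T) = t k.down := fun k => by
    show G.val.map (hT.from T).op (t k.down) = t k.down
    rw [show hT.from T = 𝟙 T from hT.hom_ext _ _]
    exact congr($(G.val.presheaf.map_id (op T)).hom (t k.down))
  have e : ∀ k, a.val.app (op T) (t k) = b.val.app (op T) (t k) := by
    intro k
    rw [SheafOfModules.freeHomEquiv_symm_comp, SheafOfModules.freeHomEquiv_symm_comp] at hab
    have := congrArg (fun z : Z.sections => z.val (op T))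
      (congr_fun ((SheafOfModules.freeHomEquiv Z).symm.injective hab) ⟨k⟩)
    rw [← hsec ⟨k⟩]
    exact this
  have e' : ∀ x, a.val.app (op T) x = b.val.app (op T) x := fun x =>
    LinearMap.eqOn_span (f := (a.val.app (op T)).hom) (g := (b.val.app (op T)).hom)
      (by rintro _ ⟨k, rfl⟩; exact e k) (ht.ge Submodule.mem_top : x ∈ Submodule.span _ (Set.range t))
  refine (cancel_epi σ.π).1 ?_
  rw [SheafOfModules.freeHomEquiv_symm_comp, SheafOfModules.freeHomEquiv_symm_comp]
  congr 1
  funext i
  refine Subtype.ext (funext fun W => ?_)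
  have ha := (SheafOfModules.sectionsMap a (σ.s i)).property (hT.from W.unop).op
  have hb := (SheafOfModules.sectionsMap b (σ.s i)).property (hT.from W.unop).op
  exact ha.symm.trans ((congrArg (Z.val.map (hT.from W.unop).op) (e' ((σ.s i).val (op T)))).trans hb)

end site

variable {X S : Scheme.{u}} (f : X ⟶ S) [IsAffineHom f] (F : X.Modules)

/-- The structure map of the direct-image algebra. -/
abbrev ψB : S.ringCatSheaf ⟶ AMod.ringSheaf (RelSpec.QCAlg.directImage f) := AMod.strHom _

lemma isQCoh_unit_dirImg :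
    Coh.IsQCoh ((SheafOfModules.restrictScalars (ψB f)).obj
      (SheafOfModules.unit (AMod.ringSheaf (RelSpec.QCAlg.directImage f))) : S.Modules) :=
  QCoh.isQCoh_pushforward f QCoh.isQCoh_structureModule

variable (hF : Coh.IsQCoh F)
include hF

lemma isQCoh_toU_dirImg (U : S.Opens) :
    Coh.IsQCoh ((QAlgMod.toU (ψB f) U).obj (((AMod.dirImg f).obj F).over U)) :=
  (QCoh.isQCoh_iff_iso (QAlgMod.toUIso (ψB f) U ((AMod.dirImg f).obj F))).2
    (QCoh.isQCoh_restrict _ (QCoh.isQCoh_pushforward f hF))

theorem isFiniteType_dirImg (hft : SheafOfModules.IsFiniteType.{u} (R := X.ringCatSheaf) F) :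
    SheafOfModules.IsFiniteType.{u} (R := AMod.ringSheaf (RelSpec.QCAlg.directImage f)) ((AMod.dirImg f).obj F) := by
  have hg : ∀ U : S.affineOpens, ∃ τ : (((AMod.dirImg f).obj F).over U.1).GeneratingSections, τ.IsFiniteType := by
    intro U
    obtain ⟨σ⟩ := QAlgMod.exists_gens (ψB f) U.2 _ (isQCoh_toU_dirImg f F hF U.1)
    exact exists_gens_of_finite_value (S := (AMod.ringSheaf (RelSpec.QCAlg.directImage f)).over U.1)
      Over.mkIdTerminal σ (QCoh.finite_of_isFT hF hft (U.2.preimage f))
  choose τ hτ using hg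
  let W : S.affineOpens → Opens S := fun V => V.1
  let q : SheafOfModules.LocalGeneratorsData.{u} (R := AMod.ringSheaf (RelSpec.QCAlg.directImage f))
      ((AMod.dirImg f).obj F) :=
    { I := S.affineOpens, X := W
      coversTop := (Opens.coversTop_iff _ W).2 (iSup_affineOpens_eq_top S)
      generators := τ }
  have hq : q.IsFiniteType := SheafOfModules.LocalGeneratorsData.IsFiniteType.mk.{u, u, u, u} (p := q) hτ
  exact @SheafOfModules.IsFiniteType.mk _ _ _ (AMod.ringSheaf (RelSpec.QCAlg.directImage f)) _ _ _ ⟨q, hq⟩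

theorem isFT_of_isFiniteType_dirImg
    (hft : SheafOfModules.IsFiniteType.{u} (R := AMod.ringSheaf (RelSpec.QCAlg.directImage f)) ((AMod.dirImg f).obj F)) :
    SheafOfModules.IsFiniteType.{u} (R := X.ringCatSheaf) F := by
  obtain ⟨q, hq⟩ := hft.exists_localGeneratorsData
  have hex : ∀ x : S, ∃ U : S.Opens, IsAffineOpen U ∧ x ∈ U ∧ Module.Finite Γ(X, f ⁻¹ᵁ U) Γ(F, f ⁻¹ᵁ U) := by
    intro x
    obtain ⟨i, hi⟩ := Opens.mem_iSup.1 ((((Opens.coversTop_iff _ _).1 q.coversTop).symm ▸ trivial :
      x ∈ ⨆ i, q.X i))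
    obtain ⟨U, hU, hxU, hUi⟩ := exists_isAffineOpen_mem_and_subset hi
    let g : (U : Opens S) ⟶ q.X i := homOfLE hUi
    haveI := hq.isFiniteType i
    let σ : (((AMod.dirImg f).obj F).over U).GeneratingSections :=
      ((q.generators i).map (SheafOfModules.overMap (AMod.ringSheaf (RelSpec.QCAlg.directImage f)) g)
        (Iso.refl _)).ofEpi ((SheafOfModules.overFunctorMap (AMod.ringSheaf (RelSpec.QCAlg.directImage f)) g).app
          ((AMod.dirImg f).obj F)).hom
    haveI : Finite σ.I := inferInstanceAs (Finite (q.generators i).I)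
    haveI : IsAffine (U : Scheme.{u}) := hU
    haveI := QAlgMod.finite_free_app (S := (AMod.ringSheaf (RelSpec.QCAlg.directImage f)).over U) σ.I
      (op (Over.mk (homOfLE U.ι_image_top.le) : Over U))
    haveI : PreservesColimitsOfSize.{0, 0} (QAlgMod.toU (ψB f) U) := preservesColimitsOfSize_shrink _
    haveI : Epi σ.π := σ.epi
    have hs := QCoh.app_surjective_of_epi (QAlgMod.isQCoh_toU_free (ψB f) (U := U) (isQCoh_unit_dirImg f) σ.I)
      (isQCoh_toU_dirImg f F hF U) ((QAlgMod.toU (ψB f) U).map σ.π) (isAffineOpen_top (U : Scheme.{u}))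
    let o : Over U := Over.mk (homOfLE U.ι_image_top.le)
    exact ⟨U.ι ''ᵁ ⊤, U.ι_image_top.symm ▸ hU, U.ι_image_top.symm ▸ hxU,
      Module.Finite.of_surjective (σ.π.val.app (op o)).hom hs⟩
  choose U hU hxU hfin using hex
  exact QCoh.isFT_of_finite hF (fun x : S => f ⁻¹ᵁ U x)
    (IsOpenCover.comap (v := U) (eq_top_iff.mpr fun y _ => Opens.mem_iSup.mpr ⟨y, hxU y⟩) f.base.1)
    (fun x => (hU x).preimage f) hfin

end Groth.Agent.AModX
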